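import Groth.Agent.Lib.CommHopf14.UnipPart
import Groth.Agent.Lib.CharFG28.GroupLike
import Mathlib.RingTheory.Flat.FaithfullyFlat.Basic
import Mathlib.FieldTheory.IsAlgClosed.AlgebraicClosure

/-!
# The largest subgroup of multiplicative type of a commutative algebraic group
-/

universe u

set_option linter.style.haveILetI false

open TensorProduct HopfRep GrothLib.Unip

namespace GrothLib.CommHopf14

variable {k : Type u} [Field k] {A : Type u} [CommRing A] [HopfAlgebra k A]

/-- A group algebra has no nonzero primitive elements. -/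
theorem eq_zero_of_primitive_monoidAlgebra {R : Type u} [CommRing R] {M : Type u} [CommGroup M]
    {x : MonoidAlgebra R M}
    (hx : Coalgebra.comul (R := R) x = x ⊗ₜ[R] (1 : MonoidAlgebra R M) + (1 : MonoidAlgebra R M) ⊗ₜ[R] x) :
    x = 0 := by
  classical
  let c : M → MonoidAlgebra R M →ₗ[R] R := fun m =>
    (Finsupp.lapply m).comp (MonoidAlgebra.coeffLinearEquiv R).toLinearMap
  have hc : ∀ (m : M) (y : MonoidAlgebra R M), c m y = y.coeff m := fun m y => rfl
  have key : ∀ (m : M) (y : MonoidAlgebra R M),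
      TensorProduct.lid R R (TensorProduct.map (c m) (c m) (Coalgebra.comul (R := R) y)) = c m y := by
    intro m y
    induction y using MonoidAlgebra.induction_linear with
    | zero => simp
    | add p q hp hq => simp only [map_add, hp, hq]
    | single n r =>
      rw [show MonoidAlgebra.single n r = r • MonoidAlgebra.single n (1 : R) by simp, map_smul, map_smul,
        map_smul, map_smul, (MonoidAlgebra.isGroupLikeElem_single_one n).comul_eq_tmul_self]
      congr 1
      simp only [TensorProduct.map_tmul, TensorProduct.lid_tmul, hc, MonoidAlgebra.coeff_single,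
        Finsupp.single_apply, smul_eq_mul]
      split_ifs <;> simp
  refine (MonoidAlgebra.coeffLinearEquiv R).injective (Finsupp.ext fun m => ?_)
  change c m x = c m 0
  rw [map_zero]
  have h := key m x
  rw [hx, map_add, map_add, TensorProduct.map_tmul, TensorProduct.map_tmul, TensorProduct.lid_tmul,
    TensorProduct.lid_tmul, smul_eq_mul, smul_eq_mul,
    show c m (1 : MonoidAlgebra R M) = if (1 : M) = m then (1 : R) else 0 by
      rw [hc, MonoidAlgebra.one_def, MonoidAlgebra.coeff_single, Finsupp.single_apply]] at h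
  split_ifs at h with hm
  · simpa using h
  · simpa using h.symm

/-- A group of multiplicative type has no nonzero primitive functions. -/
theorem eq_zero_of_primitive {C : Type u} [CommRing C] [HopfAlgebra k C] (hC : SGA3b.IsMultTypeConst k C) {p : C}
    (hp : Coalgebra.comul (R := k) p = p ⊗ₜ[k] (1 : C) + (1 : C) ⊗ₜ[k] p) : p = 0 := by
  obtain ⟨R', _, _, hff, M, _, ⟨e⟩⟩ := hC
  have h : e ((1 : R') ⊗ₜ[k] p) = 0 := eq_zero_of_primitive_monoidAlgebra <| by
    refine (CoalgHomClass.map_comp_comul_apply (e : R' ⊗[k] C →ₐc[R'] MonoidAlgebra R' M) _).symm.trans ?_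
    rw [GrothLib.TrivHom.comul_tmul_one', hp, map_add, GrothLib.TrivHom.pairMap_tmul,
      GrothLib.TrivHom.pairMap_tmul, map_add, TensorProduct.map_tmul, TensorProduct.map_tmul]
    have h1 : e ((1 : R') ⊗ₜ[k] (1 : C)) = 1 := map_one e
    change e _ ⊗ₜ[R'] e _ + e _ ⊗ₜ[R'] e _ = _
    rw [h1]
  have h2 : ((1 : R') ⊗ₜ[k] p : R' ⊗[k] C) = 0 := by
    have h3 := congrArg e.symm h
    rwa [map_zero, BialgEquiv.symm_apply_apply] at h3
  haveI := hff
  exact (Module.FaithfullyFlat.tensorProduct_mk_injective (A := k) (B := R') C)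
    (h2.trans (tmul_zero _ _).symm)

/-- Unipotent functions are constant on subgroups of multiplicative type. -/
theorem map_eq_counit {C : Type u} [CommRing C] [HopfAlgebra k C] (hC : SGA3b.IsMultTypeConst k C)
    (φ : A →ₐc[k] C) : ∀ n, ∀ a ∈ soc k A A n, φ a = Coalgebra.counit (R := k) a • (1 : C) := by
  intro n
  induction n with
  | zero => intro a ha; rw [(Submodule.mem_bot k).1 ha, map_zero, map_zero, zero_smul]
  | succ n ih =>
    intro a ha
    obtain ⟨z, hz⟩ := mem_next.1 ha
    refine sub_eq_zero.1 (eq_zero_of_primitive hC ?_)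
    have hlow : ∀ w : soc k A A n ⊗[k] A,
        TensorProduct.map (φ : A →ₗ[k] C) (φ : A →ₗ[k] C) ((soc k A A n).subtype.rTensor A w) =
          (1 : C) ⊗ₜ[k] φ (TensorProduct.lid k A
            ((Coalgebra.counit (R := k) (A := A)).rTensor A ((soc k A A n).subtype.rTensor A w))) := fun w => by
      induction w using TensorProduct.induction_on with
      | zero => simp
      | tmul x b =>
        simp only [LinearMap.rTensor_tmul, TensorProduct.map_tmul, TensorProduct.lid_tmul, map_smul]
        rw [show (φ : A →ₗ[k] C) (soc k A A n |>.subtype x) = Coalgebra.counit (R := k) (x : A) • (1 : C) from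
          ih _ x.2, TensorProduct.smul_tmul]
        rfl
      | add p q hp hq => simp only [map_add, hp, hq, TensorProduct.tmul_add]
    have h := hlow z
    rw [hz] at h
    have e1 : TensorProduct.map (φ : A →ₗ[k] C) (φ : A →ₗ[k] C)
        (Coalgebra.comul (R := k) a - a ⊗ₜ[k] (1 : A)) = Coalgebra.comul (R := k) (φ a) - φ a ⊗ₜ[k] (1 : C) := by
      rw [map_sub, TensorProduct.map_tmul]
      exact congrArg₂ (· - ·) (CoalgHomClass.map_comp_comul_apply φ a) (congrArg (φ a ⊗ₜ[k] ·) (map_one φ))
    have e2 : TensorProduct.lid k A ((Coalgebra.counit (R := k) (A := A)).rTensor A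
        (Coalgebra.comul (R := k) a - a ⊗ₜ[k] (1 : A))) = a - Coalgebra.counit (R := k) a • (1 : A) := by
      rw [map_sub, map_sub, Coalgebra.rTensor_counit_comul, LinearMap.rTensor_tmul, TensorProduct.lid_tmul,
        TensorProduct.lid_tmul, one_smul]
    rw [show (HopfRep.Comod.coact (k := k) (A := A) a : A ⊗[k] A) = Coalgebra.comul (R := k) a from rfl,
      e1, e2, map_sub, map_smul, map_one, sub_eq_iff_eq_add] at h
    rw [map_sub, h, map_smul, Bialgebra.comul_one, TensorProduct.sub_tmul, TensorProduct.tmul_sub,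
      Algebra.TensorProduct.one_def, TensorProduct.smul_tmul, TensorProduct.tmul_smul]
    abel

variable [Coalgebra.IsCocomm k A]

theorem exists_largest_multType : ∃ (J : Ideal A) (_ : J.IsHopfIdeal k), SGA3b.IsMultTypeConst k (A ⧸ J) ∧
    (∀ (I : Ideal A) [I.IsHopfIdeal k], SGA3b.IsMultTypeConst k (A ⧸ I) → J ≤ I) ∧
    ∃ (B : Type u) (_ : CommRing B) (_ : HopfAlgebra k B) (φ : B →ₐc[k] A), Function.Injective φ ∧
      J = Ideal.map (φ : B →+* A) (RingHom.ker (Bialgebra.counitAlgHom k B)) ∧ HopfRep.IsUnipotent k B := by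
  classical
  let hB := isHopfSubalgebra_unipPart (k := k) (A := A)
  letI := GrothLib.Hopf.Sub.hopfAlgebra hB
  let ψ : unipPart (k := k) (A := A) →ₐc[k] A := GrothLib.Hopf.Sub.valHom hB
  have hψ : Function.Injective ψ := Subtype.val_injective
  let J := GrothLib.Hopf.kerIdeal k ψ
  haveI hJ : J.IsHopfIdeal k := GrothLib.Hopf.FiniteRank.isHopfIdeal_kerIdeal ψ
  have hmk : ∀ n, ∀ b ∈ soc k A A n, Ideal.Quotient.mk J b = Coalgebra.counit (R := k) b • (1 : A ⧸ J) := by
    intro n b hb
    have hmem : b - Coalgebra.counit (R := k) b • (1 : A) ∈ J := by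
      let b' : unipPart (k := k) (A := A) :=
        (⟨b, n, hb⟩ : unipPart (k := k) (A := A)) - Coalgebra.counit (R := k) b • (1 : unipPart (k := k) (A := A))
      have e : ψ b' = b - Coalgebra.counit (R := k) b • (1 : A) := rfl
      rw [← e]
      show (ψ : ↥(unipPart (k := k) (A := A)) →+* A) b' ∈ GrothLib.Hopf.kerIdeal k ψ
      refine Ideal.mem_map_of_mem (ψ : ↥(unipPart (k := k) (A := A)) →+* A) ?_
      rw [RingHom.mem_ker]
      change Coalgebra.counit (R := k) (b - Coalgebra.counit (R := k) b • (1 : A)) = 0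
      rw [map_sub, map_smul, Bialgebra.counit_one, smul_eq_mul, mul_one, sub_self]
    exact Ideal.Quotient.eq.2 hmem
  refine ⟨J, hJ, ?_, ?_, unipPart (k := k) (A := A), inferInstance, inferInstance, ψ, hψ, rfl, ?_⟩
  · -- diagonalisable over the algebraic closure
    let K := AlgebraicClosure k
    let q : K ⊗[k] A →ₐc[K] K ⊗[k] (A ⧸ J) :=
      Bialgebra.TensorProduct.map (BialgHom.id K K) (Bialgebra.Quotient.mkBialgHom J)
    have hq : ∀ (c : K) (a : A), q (c ⊗ₜ[k] a) = c ⊗ₜ[k] Ideal.Quotient.mk J a := fun c a => rfl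
    have hunip : ∀ n, ∀ b ∈ soc K (K ⊗[k] A) (K ⊗[k] A) n, ∃ c : K, q b = c • (1 : K ⊗[k] (A ⧸ J)) := by
      intro n b hb
      have h := soc_baseChange_le (k := k) (A := A) (K := K) n hb
      rw [LinearMap.mem_ker] at h
      obtain ⟨y, rfl⟩ := (Module.Flat.lTensor_exact K (LinearMap.exact_subtype_mkQ (soc k A A n)) b).1 h
      clear h hb
      induction y using TensorProduct.induction_on with
      | zero => exact ⟨0, by simp⟩
      | tmul c x =>
        refine ⟨c * algebraMap k K (Coalgebra.counit (R := k) (x : A)), ?_⟩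
        rw [LinearMap.lTensor_tmul, Submodule.subtype_apply, hq, hmk n _ x.2, TensorProduct.tmul_smul,
          Algebra.TensorProduct.one_def, TensorProduct.smul_tmul', TensorProduct.smul_tmul', smul_eq_mul,
          _root_.mul_one, Algebra.smul_def, mul_comm]
      | add p r hp hr =>
        obtain ⟨cp, hp⟩ := hp
        obtain ⟨cr, hr⟩ := hr
        exact ⟨cp + cr, by rw [map_add, map_add, hp, hr, add_smul]⟩
    have hdiag : HopfRep.IsDiagonalizable K (K ⊗[k] (A ⧸ J)) := by
      rw [HopfRep.IsDiagonalizable, eq_top_iff]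
      rintro z -
      obtain ⟨p, rfl⟩ : ∃ p, q p = z := by
        induction z using TensorProduct.induction_on with
        | zero => exact ⟨0, map_zero q⟩
        | tmul c x =>
          obtain ⟨a, rfl⟩ := Ideal.Quotient.mk_surjective x
          exact ⟨c ⊗ₜ a, hq c a⟩
        | add x y hx hy =>
          obtain ⟨p, rfl⟩ := hx
          obtain ⟨r, rfl⟩ := hy
          exact ⟨p + r, map_add q p r⟩
      have hp := (span_groupLike_mul_unipPart (k := K) (A := K ⊗[k] A)).symm ▸ Submodule.mem_top (x := p)
      induction hp using Submodule.span_induction with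
      | mem x hx =>
        obtain ⟨g, b, hg, ⟨n, hb⟩, rfl⟩ := hx
        obtain ⟨c, hc⟩ := hunip n b hb
        rw [map_mul, hc, mul_smul_comm, _root_.mul_one]
        exact Submodule.smul_mem _ _ (Submodule.subset_span (hg.map q))
      | zero => rw [map_zero]; exact zero_mem _
      | add x y _ _ hx hy => rw [map_add]; exact add_mem hx hy
      | smul c x _ hx => rw [map_smul]; exact Submodule.smul_mem _ _ hx
    refine ⟨K, inferInstance, inferInstance, inferInstance, GroupLike K (K ⊗[k] (A ⧸ J)), inferInstance,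
      ⟨(BialgEquiv.ofBijective (MonoidAlgebra.liftGroupLikeBialgHom (R := K) (A := K ⊗[k] (A ⧸ J)))
        ⟨GrothLib.CharFG28.liftGroupLike_injective K _, fun z => ?_⟩).symm⟩⟩
    have hz := hdiag.symm ▸ Submodule.mem_top (x := z)
    induction hz using Submodule.span_induction with
    | mem g hg => exact ⟨MonoidAlgebra.single ⟨g, hg⟩ 1, by simp⟩
    | zero => exact ⟨0, map_zero _⟩
    | add x y _ _ hx hy =>
      obtain ⟨p, rfl⟩ := hx
      obtain ⟨r, rfl⟩ := hy
      exact ⟨p + r, map_add _ p r⟩
    | smul c x _ hx =>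
      obtain ⟨p, rfl⟩ := hx
      exact ⟨c • p, map_smul _ c p⟩
  · intro I _ hI
    refine Ideal.map_le_iff_le_comap.2 fun b hb => ?_
    obtain ⟨n, hn⟩ := b.2
    have hb0 : Coalgebra.counit (R := k) (b : A) = 0 := hb
    rw [Ideal.mem_comap]
    refine Ideal.Quotient.eq_zero_iff_mem.1 ?_
    have h := map_eq_counit hI (Bialgebra.Quotient.mkBialgHom I) n b hn
    rw [hb0, zero_smul] at h
    exact h
  · refine isUnipotent_of_forall_mem_soc fun b => ?_
    obtain ⟨n, hn⟩ := b.2
    exact ⟨n, comap_soc ψ hψ n b hn⟩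

end GrothLib.CommHopf14
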