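import Groth.Agent.Lib.HopfAG.UnipPrim
import Groth.Agent.Lib.HopfAG.Trig
import Groth.Agent.Lib.HopfAG.TrivHom
import Groth.Agent.Lib.Hopf.Antipode
import Groth.Agent.Lib.Hopf.Sub
import Groth.Prelude.Def_SGA3b
import Mathlib.LinearAlgebra.Eigenspace.Triangularizable
import Mathlib.LinearAlgebra.Eigenspace.Pi

/-!
# The unipotent and the multiplicative part of a commutative algebraic group

The functions which become constant under iterated deviations form a unipotent Hopf subalgebra; over an
algebraically closed field they span everything together with the group-like elements.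
-/

universe u

set_option linter.style.haveILetI false

open TensorProduct HopfRep GrothLib.Unip

namespace GrothLib.CommHopf14

variable {k : Type u} [Field k] {A : Type u} [CommRing A] [HopfAlgebra k A]

local notation "Δ" => (Coalgebra.comul (R := k) (A := A))

theorem mul_range {U V W : Submodule k A} (h : ∀ x ∈ U, ∀ y ∈ V, x * y ∈ W) {s t : A ⊗[k] A}
    (hs : s ∈ LinearMap.range (U.subtype.rTensor A)) (ht : t ∈ LinearMap.range (V.subtype.rTensor A)) :
    s * t ∈ LinearMap.range (W.subtype.rTensor A) := by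
  obtain ⟨s, rfl⟩ := hs
  obtain ⟨t, rfl⟩ := ht
  induction s using TensorProduct.induction_on with
  | zero => simp
  | add a b ha hb => rw [map_add, add_mul]; exact add_mem ha hb
  | tmul x a =>
    induction t using TensorProduct.induction_on with
    | zero => simp
    | add c d hc hd => rw [map_add, mul_add]; exact add_mem hc hd
    | tmul y b =>
      rw [LinearMap.rTensor_tmul, LinearMap.rTensor_tmul, Algebra.TensorProduct.tmul_mul_tmul]
      exact ⟨(⟨x.1 * y.1, h _ x.2 _ y.2⟩ : W) ⊗ₜ (a * b), rfl⟩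

/-- The socle filtration is multiplicative. -/
theorem mul_mem_soc : ∀ N : ℕ, ∀ m n, m + n = N → ∀ a ∈ soc k A A m, ∀ b ∈ soc k A A n,
    a * b ∈ soc k A A N := by
  intro N
  induction N using Nat.strong_induction_on with
  | _ N ih =>
    intro m n hN a ha b hb
    rcases m with _ | m
    · rw [(Submodule.mem_bot k).1 ha, zero_mul]; exact zero_mem _
    rcases n with _ | n
    · rw [(Submodule.mem_bot k).1 hb, mul_zero]; exact zero_mem _
    obtain ⟨N, rfl⟩ : ∃ N', N = N' + 1 := ⟨m + n + 1, by omega⟩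
    rw [soc_succ, mem_next]
    have e : Δ (a * b) - (a * b) ⊗ₜ[k] (1 : A) =
        (Δ a - a ⊗ₜ[k] (1 : A)) * Δ b + a ⊗ₜ[k] (1 : A) * (Δ b - b ⊗ₜ[k] (1 : A)) := by
      rw [Bialgebra.comul_mul, sub_mul, mul_sub, Algebra.TensorProduct.tmul_mul_tmul, _root_.one_mul]
      abel
    change Δ (a * b) - (a * b) ⊗ₜ[k] (1 : A) ∈ _
    rw [e]
    refine add_mem ?_ ?_
    · exact mul_range (fun x hx y hy => ih N N.lt_succ_self m (n + 1) (by omega) x hx y hy)
        (mem_next.1 ha) (isSubcomod_soc (n + 1) b hb)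
    · exact mul_range (fun x hx y hy => ih N N.lt_succ_self (m + 1) n (by omega) x hx y hy)
        (tmul_mem_range ha 1) (mem_next.1 hb)

/-- The unipotent functions. -/
noncomputable def unipPart : Subalgebra k A where
  carrier := {a | ∃ n, a ∈ soc k A A n}
  zero_mem' := ⟨0, zero_mem _⟩
  one_mem' := ⟨1, soc_regular_one (k := k) (A := A) ▸ Submodule.mem_span_singleton_self 1⟩
  add_mem' := fun ⟨m, ha⟩ ⟨n, hb⟩ =>
    ⟨max m n, add_mem (soc_mono (le_max_left m n) ha) (soc_mono (le_max_right m n) hb)⟩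
  mul_mem' := fun ⟨m, ha⟩ ⟨n, hb⟩ => ⟨m + n, mul_mem_soc _ m n rfl _ ha _ hb⟩
  algebraMap_mem' := fun r => ⟨1, by
    rw [soc_regular_one, Algebra.algebraMap_eq_smul_one]
    exact Submodule.smul_mem _ _ (Submodule.mem_span_singleton_self 1)⟩

theorem mem_unipPart {a : A} : a ∈ unipPart (k := k) (A := A) ↔ ∃ n, a ∈ soc k A A n := Iff.rfl

variable [Coalgebra.IsCocomm k A]

theorem antipode_mem_soc (n : ℕ) {a : A} (ha : a ∈ soc k A A n) :
    HopfAlgebraStruct.antipode k a ∈ soc k A A n :=
  map_soc (BialgHom.ofAlgHom (HopfAlgebra.antipodeAlgHom k A)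
    (AlgHom.ext fun x => HopfAlgebra.counit_antipode x)
    (AlgHom.ext fun x => by
      change TensorProduct.map (HopfAlgebraStruct.antipode k) (HopfAlgebraStruct.antipode k) (Δ x) =
        Δ (HopfAlgebraStruct.antipode k x)
      rw [GrothLib.Hopf.comul_antipode, Coalgebra.comm_comul])) n a ha

theorem isHopfSubalgebra_unipPart : SGA3.IsHopfSubalgebra k A (unipPart (k := k) (A := A)) := by
  refine ⟨fun b hb => ?_, fun b ⟨n, hn⟩ => ⟨n, antipode_mem_soc n hn⟩⟩
  obtain ⟨n, hn⟩ := hb
  rcases n with _ | r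
  · rw [(Submodule.mem_bot k).1 hn, map_zero]
    exact zero_mem _
  refine (iSup₂_le fun i _ => ?_ : (⨆ i ∈ Finset.range (r + 1),
      LinearMap.range (TensorProduct.mapIncl (soc k A A (i + 1)) (soc k A A (r - i + 1)))) ≤
    LinearMap.range (TensorProduct.map (unipPart (k := k) (A := A)).val.toLinearMap
      (unipPart (k := k) (A := A)).val.toLinearMap)) (comul_mem_soc r hn)
  rintro _ ⟨y, rfl⟩
  induction y using TensorProduct.induction_on with
  | zero => simp
  | add p q hp hq => rw [map_add]; exact add_mem hp hq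
  | tmul p q => exact ⟨(⟨p.1, _, p.2⟩ : unipPart (k := k) (A := A)) ⊗ₜ
      (⟨q.1, _, q.2⟩ : unipPart (k := k) (A := A)), rfl⟩

section Decomp

theorem exists_step (V F : Submodule k A) [Module.Finite k V] (hF : F < V)
    (hV : ∀ f : Module.Dual k A, ∀ v ∈ V, GrothLib.Hopf.Comod.op f v ∈ V)
    (hFs : ∀ f : Module.Dual k A, ∀ v ∈ F, GrothLib.Hopf.Comod.op f v ∈ F)
    (χ : Module.Dual k A → k)
    (hχ : ∀ f, ∀ v ∈ V, ∃ n : ℕ,
      ((GrothLib.Hopf.Comod.op f : A →ₗ[k] A) - χ f • LinearMap.id : Module.End k A) ^ n • v = (0 : A)) :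
    ∃ v ∈ V, v ∉ F ∧ ∀ f, GrothLib.Hopf.Comod.op f v - χ f • v ∈ F := by
  classical
  have hex : ∃ d, ∃ W : Submodule k A, F < W ∧ W ≤ V ∧
      (∀ f : Module.Dual k A, ∀ v ∈ W, GrothLib.Hopf.Comod.op f v ∈ W) ∧ Module.finrank k W = d :=
    ⟨_, V, hF, le_rfl, hV, rfl⟩
  obtain ⟨W, hFW, hWV, hW, hd⟩ := Nat.find_spec hex
  haveI : Module.Finite k W :=
    Module.Finite.of_injective (Submodule.inclusion hWV) (Submodule.inclusion_injective hWV)
  obtain ⟨v, hv, hvF⟩ := SetLike.exists_of_lt hFW
  refine ⟨v, hWV hv, hvF, fun f => ?_⟩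
  let N : Module.End k A := (GrothLib.Hopf.Comod.op f : A →ₗ[k] A) - χ f • LinearMap.id
  let W' : Submodule k A := W ⊓ F.comap N
  have hFW' : F ≤ W' := fun x hx => ⟨hFW.le hx, sub_mem (hFs f x hx) (F.smul_mem _ hx)⟩
  have hne : F ≠ W' := by
    intro he
    obtain ⟨n, hn⟩ := hχ f v (hWV hv)
    have hall : ∀ (i : ℕ) (x : A), x ∈ W → (N ^ i) x = 0 → x ∈ F := by
      intro i
      induction i with
      | zero => intro x _ hx; rw [show x = 0 from hx]; exact zero_mem _
      | succ i ih =>
        intro x hxW hx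
        rw [pow_succ, Module.End.mul_apply] at hx
        exact he.symm ▸ ⟨hxW, ih (N x) (sub_mem (hW f x hxW) (W.smul_mem _ hxW)) hx⟩
    exact hvF (hall n v hv hn)
  have hW's : ∀ g : Module.Dual k A, ∀ x ∈ W', GrothLib.Hopf.Comod.op g x ∈ W' := by
    rintro g x ⟨hx, hxN⟩
    refine ⟨hW g x hx, ?_⟩
    have h := hFs g _ hxN
    have e : GrothLib.Hopf.Comod.op g (N x) = N (GrothLib.Hopf.Comod.op g x) := by
      simp only [N, LinearMap.sub_apply, LinearMap.smul_apply, LinearMap.id_apply, map_sub, map_smul]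
      rw [GrothLib.Trig.op_comm]
    rwa [e] at h
  have hWW : W' = W := by
    by_contra hne'
    have hlt : W' < W := lt_of_le_of_ne inf_le_left hne'
    exact Nat.find_min hex (hd ▸ Submodule.finrank_lt_finrank_of_lt hlt)
      ⟨W', lt_of_le_of_ne hFW' hne, inf_le_left.trans hWV, hW's, rfl⟩
  exact (hWW.symm ▸ hv : v ∈ W').2

variable [IsAlgClosed k]

/-- Group-like elements times unipotent functions span everything. -/
theorem span_groupLike_mul_unipPart :
    Submodule.span k {x : A | ∃ g b, IsGroupLikeElem k g ∧ b ∈ unipPart (k := k) (A := A) ∧ x = g * b} = ⊤ := by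
  classical
  rw [eq_top_iff]
  intro a _
  obtain ⟨U, hfin, haU, hUc⟩ := GrothLib.Comodule.exists_finite_subcomod (k := k) (C := A) a
  have hU : ∀ f : Module.Dual k A, ∀ u ∈ U, GrothLib.Hopf.Comod.op f u ∈ U :=
    GrothLib.Comodule.isSubcomod_iff_op.1 hUc
  let T : Module.Dual k A → Module.End k U := fun f => (GrothLib.Hopf.Comod.op f : A →ₗ[k] A).restrict (hU f)
  have hcomm : ∀ f g, Commute (T f) (T g) := fun f g => by
    refine LinearMap.ext fun u => Subtype.ext ?_
    exact GrothLib.Trig.op_comm f g (u : A)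
  have htop := Module.End.iSup_iInf_maxGenEigenspace_eq_top_of_iSup_maxGenEigenspace_eq_top_of_commute T
    (fun f g _ => hcomm f g) fun f => Module.End.iSup_maxGenEigenspace_eq_top (T f)
  set M := Submodule.span k {x : A | ∃ g b, IsGroupLikeElem k g ∧ b ∈ unipPart (k := k) (A := A) ∧ x = g * b}
  suffices h : ⊤ ≤ M.comap U.subtype from h (Submodule.mem_top : (⟨a, haU⟩ : U) ∈ ⊤)
  rw [← htop]
  refine iSup_le fun χ => ?_
  let V : Submodule k A := (⨅ f, (T f).maxGenEigenspace (χ f)).map U.subtype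
  suffices h : V ≤ M from fun u hu => h ⟨u, hu, rfl⟩
  haveI : Module.Finite k V := Module.Finite.map _ _
  have hnil : ∀ f, ∀ v ∈ V, ∃ n : ℕ,
      ((GrothLib.Hopf.Comod.op f : A →ₗ[k] A) - χ f • LinearMap.id : Module.End k A) ^ n • v = (0 : A) := by
    rintro f _ ⟨u, hu, rfl⟩
    obtain ⟨n, hn⟩ := (Module.End.mem_maxGenEigenspace _ _ _).1 ((Submodule.mem_iInf _).1 hu f)
    refine ⟨n, ?_⟩
    have e : ∀ (i : ℕ) (u : U), ((((T f) - χ f • 1) ^ i) u : A) =
        ((((GrothLib.Hopf.Comod.op f : A →ₗ[k] A) - χ f • LinearMap.id : Module.End k A)) ^ i) (u : A) := by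
      intro i
      induction i with
      | zero => intro u; rfl
      | succ i ih => intro u; rw [pow_succ, pow_succ, Module.End.mul_apply, Module.End.mul_apply, ih]; rfl
    exact (e n u).symm.trans (congrArg Subtype.val hn)
  have hVs : ∀ f : Module.Dual k A, ∀ v ∈ V, GrothLib.Hopf.Comod.op f v ∈ V := by
    rintro f _ ⟨u, hu, rfl⟩
    refine ⟨T f u, (Submodule.mem_iInf _).2 fun g => ?_, rfl⟩
    exact Module.End.mapsTo_maxGenEigenspace_of_comm (hcomm g f) _ ((Submodule.mem_iInf _).1 hu g)
  rcases eq_or_ne V ⊥ with h0 | h0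
  · rw [h0]; exact bot_le
  obtain ⟨v₀, hv₀, hv₀0, hv₀χ⟩ := exists_step V ⊥ (bot_lt_iff_ne_bot.2 h0) hVs
    (fun f v hv => by rw [(Submodule.mem_bot k).1 hv, map_zero]; exact zero_mem _) χ hnil
  have hop : ∀ f, GrothLib.Hopf.Comod.op f v₀ = χ f • v₀ := fun f => sub_eq_zero.1 ((Submodule.mem_bot k).1 (hv₀χ f))
  -- the group-like element of the weight
  have hf0 : ∀ f : Module.Dual k A, f v₀ = χ f * Coalgebra.counit (R := k) v₀ := fun f => by
    have h := congrArg (Coalgebra.counit (R := k) (A := A)) (hop f)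
    rw [map_smul, smul_eq_mul] at h
    rw [← h]
    change _ = Coalgebra.counit (R := k) (TensorProduct.rid k A (f.lTensor A (Δ v₀)))
    have e : ∀ z : A ⊗[k] A, Coalgebra.counit (R := k) (TensorProduct.rid k A (f.lTensor A z)) =
        f (TensorProduct.lid k A (Coalgebra.counit.rTensor A z)) := fun z => by
      induction z using TensorProduct.induction_on with
      | zero => simp
      | tmul p q => simp [mul_comm]
      | add p q hp hq => simp only [map_add, hp, hq]
    rw [e, Coalgebra.rTensor_counit_comul, TensorProduct.lid_tmul, one_smul]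
  have hε : Coalgebra.counit (R := k) v₀ ≠ 0 := fun h => hv₀0 <| (Submodule.mem_bot k).2 <|
    (Module.forall_dual_apply_eq_zero_iff k _).1 fun f => by rw [hf0, h, mul_zero]
  set g : A := (Coalgebra.counit (R := k) v₀)⁻¹ • v₀
  have hgχ : ∀ f : Module.Dual k A, χ f = f g := fun f => by
    rw [map_smul, smul_eq_mul, hf0 f, mul_comm (χ f), inv_mul_cancel_left₀ hε]
  have hΔ : Δ v₀ = v₀ ⊗ₜ[k] g := by
    refine GrothLib.Comodule.ext_dual fun f => ?_
    change GrothLib.Hopf.Comod.op f v₀ = _
    rw [hop, hgχ, LinearMap.lTensor_tmul, TensorProduct.rid_tmul]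
  have hg : IsGroupLikeElem k g := by
    refine ⟨by rw [map_smul, smul_eq_mul, inv_mul_cancel₀ hε], ?_⟩
    conv_lhs => rw [map_smul, hΔ, TensorProduct.smul_tmul']
  let g' := HopfAlgebraStruct.antipode k g
  have hg' : IsGroupLikeElem k g' := hg.antipode
  have hgg : g' * g = 1 := by rw [mul_comm]; exact hg.mul_antipode_cancel
  let Wg : Submodule k A := (Subalgebra.toSubmodule (unipPart (k := k) (A := A))).comap (LinearMap.mulRight k g')
  suffices h : V ≤ Wg by
    intro v hv
    refine Submodule.subset_span ⟨g, v * g', hg, h hv, ?_⟩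
    rw [mul_comm g, mul_assoc, hgg, mul_one]
  have main : ∀ (m : ℕ) (F : Submodule k A), F ≤ V → (∀ f : Module.Dual k A, ∀ v ∈ F,
      GrothLib.Hopf.Comod.op f v ∈ F) → Module.finrank k V ≤ Module.finrank k F + m → F ≤ Wg → V ≤ Wg := by
    intro m
    induction m with
    | zero =>
      intro F hFV _ hm hF
      rwa [Submodule.eq_of_le_of_finrank_le hFV (by simpa using hm)] at hF
    | succ m ih =>
      intro F hFV hFs hm hF
      rcases eq_or_lt_of_le hFV with rfl | hlt
      · exact hF
      let F' : Submodule k A :=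
        V ⊓ ⨅ f, F.comap ((GrothLib.Hopf.Comod.op f : A →ₗ[k] A) - χ f • LinearMap.id)
      have hmem : ∀ x, x ∈ F' ↔ x ∈ V ∧ ∀ f, GrothLib.Hopf.Comod.op f x - χ f • x ∈ F := fun x => by
        simp [F']
      have hFF' : F ≤ F' := fun x hx => (hmem x).2 ⟨hFV hx, fun f => sub_mem (hFs f x hx) (F.smul_mem _ hx)⟩
      obtain ⟨v, hvV, hvF, hv⟩ := exists_step V F hlt hVs hFs χ hnil
      have hlt' : F < F' := lt_of_le_of_ne hFF' fun he => hvF (he.symm ▸ (hmem v).2 ⟨hvV, hv⟩)
      haveI : Module.Finite k F' :=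
        Module.Finite.of_injective (Submodule.inclusion inf_le_left) (Submodule.inclusion_injective _)
      refine ih F' inf_le_left (fun f x hx => ?_) ?_ ?_
      · obtain ⟨hxV, hx⟩ := (hmem x).1 hx
        refine (hmem _).2 ⟨hVs f x hxV, fun f' => ?_⟩
        have h := hFs f _ (hx f')
        rwa [map_sub, map_smul, GrothLib.Trig.op_comm f f'] at h
      · have := Submodule.finrank_lt_finrank_of_lt hlt'
        omega
      · intro x hx
        obtain ⟨-, hx⟩ := (hmem x).1 hx
        have hxF : Δ x - x ⊗ₜ[k] g ∈ LinearMap.range (F.subtype.rTensor A) := by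
          refine ((rTensor_exact A (LinearMap.exact_subtype_mkQ F) (Submodule.mkQ_surjective _)) _).1 ?_
          refine GrothLib.Comodule.ext_dual fun f => ?_
          rw [GrothLib.Comodule.rid_lTensor_rTensor, map_zero, map_zero]
          refine (Submodule.Quotient.mk_eq_zero F).2 ?_
          rw [map_sub, map_sub, LinearMap.lTensor_tmul, TensorProduct.rid_tmul, ← hgχ]
          exact hx f
        obtain ⟨z, hz⟩ := hxF
        have hn : ∃ n, (F.subtype.rTensor A z) * (g' ⊗ₜ[k] g') ∈
            LinearMap.range ((soc k A A n).subtype.rTensor A) := by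
          clear hz
          induction z using TensorProduct.induction_on with
          | zero => exact ⟨0, by simp⟩
          | tmul p q =>
            obtain ⟨n, hn⟩ := hF p.2
            refine ⟨n, ?_⟩
            rw [LinearMap.rTensor_tmul, Algebra.TensorProduct.tmul_mul_tmul]
            exact tmul_mem_range hn _
          | add p q hp hq =>
            obtain ⟨m, hp⟩ := hp
            obtain ⟨n, hq⟩ := hq
            refine ⟨max m n, ?_⟩
            rw [map_add, add_mul]
            exact add_mem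
              (GrothLib.Comodule.range_subtype_rTensor_mono (C := A) (soc_mono (le_max_left m n)) hp)
              (GrothLib.Comodule.range_subtype_rTensor_mono (C := A) (soc_mono (le_max_right m n)) hq)
        obtain ⟨n, hn⟩ := hn
        refine ⟨n + 1, ?_⟩
        rw [soc_succ, mem_next]
        change Δ (x * g') - (x * g') ⊗ₜ[k] (1 : A) ∈ _
        have e : (F.subtype.rTensor A z) * (g' ⊗ₜ[k] g') = Δ (x * g') - (x * g') ⊗ₜ[k] (1 : A) := by
          rw [hz, sub_mul, Algebra.TensorProduct.tmul_mul_tmul, Bialgebra.comul_mul, hg'.comul_eq_tmul_self,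
            mul_comm g, hgg]
        rwa [← e]
  exact main _ ⊥ bot_le (fun f v hv => by rw [(Submodule.mem_bot k).1 hv, map_zero]; exact zero_mem _)
    (Nat.le_add_left _ _) bot_le

end Decomp

end GrothLib.CommHopf14
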